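import Cfsg.Agent.S0813
import Cfsg.Agent.Lib.Classical.SLOrders
import Cfsg.Agent.Lib.KnownC.AutPSL.Conj

/-!
The automorphism group of `PGL(3, 4)`: it is that of `PSL(3, 4)`, of order 241920, and a group of
this order with a normal `PSL(3, 4)` of trivial centraliser is isomorphic to it.
-/

set_option autoImplicit false
set_option linter.unusedSectionVars false

namespace CfsgLib.Characterizations.L34Aut

open Subgroup

section Almost

variable {L : Type*} [Group L]

/-- Automorphisms of a normal subgroup of `MulAut L` containing the inner ones come from `MulAut L`. -/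
theorem mulAut_of_normal [IsSimpleGroup L] (hL : center L = ⊥) (P : Subgroup (MulAut L)) [P.Normal]
    (hle : (MulAut.conj : L →* MulAut L).range ≤ P) : Nonempty (MulAut L ≃* MulAut P) := by
  classical
  have hinj : Function.Injective (MulAut.conj : L →* MulAut L) := by
    refine (injective_iff_map_eq_one _).2 fun g hg => ?_
    have : g ∈ center L := mem_center_iff.2 fun x => by
      have := MulEquiv.congr_fun hg x
      simp only [MulAut.conj_apply, MulAut.one_apply] at this
      exact (mul_inv_eq_iff_eq_mul.1 this).symm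
    rwa [hL, mem_bot] at this
  have htau : ∀ (α : MulAut L) (g : L), α * MulAut.conj g * α⁻¹ = MulAut.conj (α g) := fun α g => by
    refine MulEquiv.ext fun x => ?_
    simp [MulAut.mul_apply, MulAut.inv_def, map_mul, map_inv]
  let ι : L →* P := (MulAut.conj : L →* MulAut L).codRestrict P fun g => hle ⟨g, rfl⟩
  have hι : Function.Injective ι := fun a b e => hinj (congrArg Subtype.val e)
  let Φ : MulAut L →* MulAut P := MulAut.conjNormal
  have hΦ : ∀ (α : MulAut L) (g : L), Φ α (ι g) = ι (α g) := fun α g => Subtype.ext (by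
    rw [MulAut.conjNormal_apply]; exact htau α g)
  refine ⟨MulEquiv.ofBijective Φ ⟨(injective_iff_map_eq_one _).2 fun α h => MulEquiv.ext fun g => hι ?_, fun α => ?_⟩⟩
  · rw [← hΦ, h]; rfl
  -- an automorphism of P moves the inner automorphisms onto themselves
  set S : Subgroup P := ι.range with hS
  have hSn : S.Normal := ⟨fun x ⟨g, hg⟩ p => ⟨(p : MulAut L) g, by
    subst hg; exact Subtype.ext (htau (p : MulAut L) g).symm⟩⟩
  let T : Subgroup P := S.map (α : P ≃* P).toMonoidHom
  have hTn : T.Normal := hSn.map _ (α : P ≃* P).surjective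
  have hSs : ∀ K : Subgroup P, K.Normal → S ≤ K ∨ S ⊓ K = ⊥ := fun K hK => by
    rcases (hK.comap ι).eq_bot_or_eq_top with h | h
    · right
      rw [eq_bot_iff]
      rintro x ⟨⟨g, rfl⟩, hg⟩
      have : g ∈ K.comap ι := hg
      rw [h, mem_bot] at this
      simp [this]
    · left
      rintro x ⟨g, rfl⟩
      exact show g ∈ K.comap ι from h ▸ mem_top g
  have hcent : ∀ p : P, (∀ g, p * ι g = ι g * p) → p = 1 := fun p hp => by
    refine Subtype.ext (MulEquiv.ext fun g => hinj ?_)
    rw [← htau]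
    have := congrArg Subtype.val (hp g)
    rw [OneMemClass.coe_one, MulAut.one_apply]
    exact mul_inv_eq_of_eq_mul this
  have hne : ∃ g : L, g ≠ 1 := exists_ne 1
  have hST : S ≤ T := by
    refine (hSs T hTn).resolve_right fun h => ?_
    obtain ⟨g, hg⟩ := hne
    refine hg (hι ((map_one ι).symm ▸ (α : P ≃* P).injective ((map_one (α : P ≃* P)).symm ▸ hcent _ fun k => ?_)))
    refine Subgroup.commute_of_normal_of_disjoint T S hTn hSn (disjoint_iff.2 (by rw [inf_comm]; exact h)) _ _
      ⟨ι g, ⟨g, rfl⟩, rfl⟩ ⟨k, rfl⟩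
  have hTS : T ≤ S := by
    rintro _ ⟨_, ⟨g, rfl⟩, rfl⟩
    rcases hSs (S.comap (α : P ≃* P).toMonoidHom) (hSn.comap _) with h | h
    · exact h ⟨g, rfl⟩
    · obtain ⟨k, hk⟩ := hne
      obtain ⟨_, ⟨j, rfl⟩, hj⟩ := hST ⟨k, rfl⟩
      have : ι j ∈ S ⊓ S.comap (α : P ≃* P).toMonoidHom := ⟨⟨j, rfl⟩, show _ ∈ S from hj ▸ ⟨k, rfl⟩⟩
      rw [h, mem_bot] at this
      rw [this, map_one] at hj
      exact absurd (hι (hj.symm.trans (map_one ι).symm)) hk
  choose f hf using fun g : L => (hTS ⟨ι g, ⟨g, rfl⟩, rfl⟩ : (α : P ≃* P) (ι g) ∈ S)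
  have hbij : Function.Bijective f := by
    refine ⟨fun a b e => hι ((α : P ≃* P).injective (by rw [← hf, ← hf, e])), fun k => ?_⟩
    obtain ⟨_, ⟨j, rfl⟩, hj⟩ := hST ⟨k, rfl⟩
    exact ⟨j, hι ((hf j).trans hj)⟩
  let β : MulAut L := MulEquiv.ofBijective
    (MonoidHom.mk' f fun a b => hι (by rw [map_mul, hf, hf, hf, map_mul, map_mul])) hbij
  refine ⟨β, MulEquiv.ext fun p => ?_⟩
  have key : ∀ g : L, Φ β p * ι (f g) * (Φ β p)⁻¹ = α p * ι (f g) * (α p)⁻¹ := fun g => by
    obtain ⟨k, hk⟩ := (hSn.conj_mem (ι g) ⟨g, rfl⟩ p : p * ι g * p⁻¹ ∈ S)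
    have e1 : Φ β (p * ι g * p⁻¹) = α (p * ι g * p⁻¹) := by
      rw [← hk, hΦ]; exact hf k
    rw [map_mul, map_mul, map_inv, map_mul, map_mul, map_inv, hΦ] at e1
    rw [hf]
    exact (show ι (β g) = α (ι g) from hf g) ▸ e1
  have : (α p)⁻¹ * Φ β p = 1 := hcent _ fun k => by
    obtain ⟨g, rfl⟩ := hbij.2 k
    have := key g
    rw [mul_inv_eq_iff_eq_mul] at this
    rw [mul_assoc, this]
    group
  exact (inv_mul_eq_one.1 this).symm

end Almost

section Model

variable {F : Type*} [Field F] {n : ℕ}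

local notation "PSLn" => Matrix.ProjectiveSpecialLinearGroup (Fin n) F

open CfsgLib.KnownC.AutPSL

/-- `PGL` as the group of inner-diagonal automorphisms of `PSL`. -/
theorem pgl_equiv (hn : 2 ≤ n) :
    Nonempty ((GL (Fin n) F ⧸ center (GL (Fin n) F)) ≃* ↥(Cfsg.inndiagPSL n F)) := by
  let φ : GL (Fin n) F →* MulAut PSLn :=
    MonoidHom.mk' (fun A => semiAut A (RingEquiv.refl F)) fun A B => by
      rw [semiAut_mul]; rfl
  have hker : φ.ker = center (GL (Fin n) F) := by
    rw [Matrix.GeneralLinearGroup.center_eq_range_scalar]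
    ext A
    refine ⟨fun h => ?_, ?_⟩
    · obtain ⟨-, c, hc⟩ := semi_eq_one hn (MonoidHom.mem_ker.1 h)
      exact ⟨c, Units.ext (by rw [hc]; exact scl_coe c)⟩
    · rintro ⟨c, rfl⟩
      exact semiAut_scl c
  have hr : φ.range = Cfsg.inndiagPSL n F := by
    ext β
    rw [inndiag_iff_mem]
    exact ⟨fun ⟨A, h⟩ => ⟨A, h.symm⟩, fun ⟨A, h⟩ => ⟨A, h.symm⟩⟩
  exact ⟨(QuotientGroup.quotientMulEquivOfEq hker.symm).trans
    ((QuotientGroup.quotientKerEquivRange φ).trans (MulEquiv.subgroupCongr hr))⟩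

/-- A group with a normal copy of `L` with trivial centraliser embeds in `MulAut L`. -/
theorem exists_injective_mulAut {G L : Type*} [Group G] [Group L] (N : Subgroup G) [N.Normal]
    (e : N ≃* L) (hc : centralizer (N : Set G) = ⊥) : ∃ φ : G →* MulAut L, Function.Injective φ := by
  refine ⟨(MulAut.congr e).toMonoidHom.comp MulAut.conjNormal,
    (MulAut.congr e).injective.comp ((injective_iff_map_eq_one _).2 fun g hg => ?_)⟩
  have : g ∈ centralizer (N : Set G) := mem_centralizer_iff.2 fun x hx => by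
    have := congrArg Subtype.val (MulEquiv.congr_fun hg (⟨x, hx⟩ : N))
    rw [MulAut.conjNormal_apply, MulAut.one_apply] at this
    exact (mul_inv_eq_iff_eq_mul.1 this).symm
  rwa [hc, mem_bot] at this

variable [Fintype F]

theorem card_mulAut_psl (hF : Fintype.card F = 4) :
    Nat.card (MulAut (Matrix.ProjectiveSpecialLinearGroup (Fin 3) F)) = 241920 := by
  have : Fact (Nat.Prime 2) := ⟨Nat.prime_two⟩
  have h := Cfsg.Agent.S0813.result 2 2 (by norm_num) (hF.trans (by norm_num)) 3 (by norm_num) (by norm_num)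
  have h1 := CfsgLib.Classical.card_sl_mul hF 3 (by norm_num)
  have h2 := CfsgLib.Classical.card_pgl_mul (n := Fin 3) (F := F)
  rw [← CfsgLib.Classical.card_units_mul_card_sl, mul_comm] at h2
  rw [Fin.prod_univ_three] at h1
  rw [h, Nat.eq_of_mul_eq_mul_left Nat.card_pos h2]
  norm_num at h1 ⊢
  omega

/-- The automorphism groups of `PGL(3, 4)` and of `PSL(3, 4)` are the same. -/
theorem mulAut_pgl_equiv (_hF : Fintype.card F = 4) :
    Nonempty (MulAut (GL (Fin 3) F ⧸ center (GL (Fin 3) F)) ≃*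
      MulAut (Matrix.ProjectiveSpecialLinearGroup (Fin 3) F)) := by
  have := CfsgLib.Classical.psl_fin_isSimpleGroup (F := F) (k := 3) (by norm_num) (by norm_num)
  have := inndiag_normal (F := F) (n := 3) (by norm_num)
  obtain ⟨e⟩ := pgl_equiv (F := F) (n := 3) (by norm_num)
  obtain ⟨e'⟩ := mulAut_of_normal (Cfsg.Agent.S0813.psl_center_bot (by norm_num) (by norm_num))
    (Cfsg.inndiagPSL 3 F) (by
      rintro _ ⟨x, rfl⟩
      induction x using QuotientGroup.induction_on with
      | _ s =>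
        refine (inndiag_iff_mem _).2 ⟨Matrix.SpecialLinearGroup.toGL s, MulEquiv.ext fun y => ?_⟩
        induction y using QuotientGroup.induction_on with
        | _ u =>
          rw [semiAut_mk, MulAut.conj_apply, ← QuotientGroup.mk_inv, ← QuotientGroup.mk_mul, ← QuotientGroup.mk_mul]
          refine congrArg _ (Subtype.ext ?_)
          rw [semiSL_coe, Matrix.SpecialLinearGroup.coe_mul, Matrix.SpecialLinearGroup.coe_mul, ← map_inv,
            coe_toGL, coe_toGL]
          rfl)
  exact ⟨(MulAut.congr e).trans e'.symm⟩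

/-- Recognition of `Aut(PGL(3, 4))`. -/
theorem nonempty_equiv_mulAut_pgl {G : Type*} [Group G] [Finite G] (hF : Fintype.card F = 4)
    (N : Subgroup G) [N.Normal] (e : N ≃* Matrix.ProjectiveSpecialLinearGroup (Fin 3) F)
    (hc : centralizer (N : Set G) = ⊥) (hG : Nat.card G = 241920) :
    Nonempty (G ≃* MulAut (GL (Fin 3) F ⧸ center (GL (Fin 3) F))) := by
  obtain ⟨φ, hφ⟩ := exists_injective_mulAut N e hc
  obtain ⟨m⟩ := mulAut_pgl_equiv hF
  have hne : Nat.card (MulAut (Matrix.ProjectiveSpecialLinearGroup (Fin 3) F)) ≠ 0 := by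
    rw [card_mulAut_psl hF]; norm_num
  have := Nat.finite_of_card_ne_zero hne
  exact ⟨(MulEquiv.ofBijective φ ((Nat.bijective_iff_injective_and_card φ).2
    ⟨hφ, hG.trans (card_mulAut_psl hF).symm⟩)).trans m.symm⟩

end Model

end CfsgLib.Characterizations.L34Aut
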